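import Groth.Agent.Lib.ShHomTensor28.Mu

/-!
# The projection formula on pure tensors
-/

set_option autoImplicit false
set_option maxHeartbeats 1600000

universe u

open CategoryTheory Limits Opposite MonoidalCategory

namespace Groth.Agent.Lib.ShHomTensor28.Proj

open Groth.Agent.Lib.ShHomTensor28.Tmul Groth.Agent.Lib.ShHomTensor28.Mu
  Groth.Agent.Lib.ModTensor.Monoidal Groth.Agent.Lib.ExtZero.Presheaf

variable {C : Type u} [SmallCategory C] {J : GrothendieckTopology C} {O : Sheaf J CommRingCat.{u}}
  (U : C)

/-- The unit of extension by zero, on sections. -/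
noncomputable abbrev ue (P : _root_.ModSite.Mod (O.over U)) {X : Over U} (p : P.val.obj (op X)) :
    ((ExtZero.ModSite.EZ O U).obj P).val.obj (op X.left) :=
  ((adj O).unit.app ((Ec O.obj U).obj P.val)).app (op X.left)
    (incC P.val (V := op X.left) X.hom p)

lemma unit_EZ (P : _root_.ModSite.Mod (O.over U)) {X : Over U} (p : P.val.obj (op X)) :
    ((ExtZero.ModSite.adjEZ O U).unit.app P).val.app (op X) p =
      rs' U (M := (ExtZero.ModSite.EZ O U).obj P) (ue U P p) := by
  rfl

lemma sheafifyCompEZ_unit (Q : PMUc O.obj U) {X : Over U} (q : Q.obj (op X)) :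
    ((ExtZero.ModSite.sheafifyCompEZ O U).hom.app Q).val.app (op X.left)
      (ue U ((L (O.over U)).obj Q) (((adj (O.over U)).unit.app Q).app (op X) q)) =
      ((adj O).unit.app ((Ec O.obj U).obj Q)).app (op X.left)
        (incC Q (V := op X.left) X.hom q) := by
  have h := Adjunction.unit_leftAdjointUniq_hom_app
    ((ExtZero.Sheaf.adjLU (_root_.ModSite.ringSh O) U).comp
      (ExtZero.Sheaf.adjEZ (_root_.ModSite.ringSh O) U))
    (ExtZero.Sheaf.adjEL (_root_.ModSite.ringSh O) U) Q
  exact congrArg (fun k => k.app (op X) q) h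

lemma projRight_unit (N : _root_.ModSite.Mod O) (P : _root_.ModSite.Mod (O.over U)) {X : Over U}
    (p : P.val.obj (op X)) (n : N.val.obj (op X.left)) :
    ((ExtZero.ModSite.projRight O U N).hom.app P).val.app (op X.left)
        (ue U (T P ((_root_.ModSite.restr O U).obj N))
          (tm (A := P) (B := (_root_.ModSite.restr O U).obj N) (V := X) p (rs' U n))) =
      tm (A := (ExtZero.ModSite.EZ O U).obj P) (B := N) (V := X.left) (ue U P p) n := by
  let Q : PMUc O.obj U := P.val ⊗ (restrc O.obj U).obj N.val
  have he : (ExtZero.ModSite.projRight O U N).hom.app P =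
      (ExtZero.ModSite.sheafifyCompEZ O U).hom.app Q ≫ (L O).map (projIso P.val N.val).hom ≫
        (tensorRightCompIso ((G O).obj N)).hom.app ((Ec O.obj U).obj P.val) := by
    have e0 : (ExtZero.ModSite.EZ O U).map
        ((ModTensor.ModSite.tensorBiFlipIso ((_root_.ModSite.restr O U).obj N)).hom.app P) = 𝟙 _ :=
      (congrArg (ExtZero.ModSite.EZ O U).map (rfl : _ = 𝟙 _)).trans
        (CategoryTheory.Functor.map_id _ _)
    simp only [ExtZero.ModSite.projRight, Iso.trans_hom, NatTrans.comp_app,
      Functor.isoWhiskerRight_hom, Functor.isoWhiskerLeft_hom, Functor.whiskerRight_app,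
      Functor.whiskerLeft_app]
    rw [e0]
    refine (Category.id_comp _).trans ?_
    show (ExtZero.ModSite.sheafifyCompEZ O U).hom.app Q ≫ (L O).map (projIso P.val N.val).hom ≫
      (tensorRightCompIso ((G O).obj N)).hom.app ((Ec O.obj U).obj P.val) ≫ 𝟙 _ = _
    exact congrArg _ (congrArg _ (Category.comp_id _))
  refine (congrArg (fun k => k.val.app (op X.left)
    (ue U (T P ((_root_.ModSite.restr O U).obj N))
      (tm (A := P) (B := (_root_.ModSite.restr O U).obj N) (V := X) p (rs' U n)))) he).trans ?_
  show (((tensorRightCompIso ((G O).obj N)).hom.app ((Ec O.obj U).obj P.val))).val.app (op X.left)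
    (((L O).map (projIso P.val N.val).hom).val.app (op X.left)
      (((ExtZero.ModSite.sheafifyCompEZ O U).hom.app Q).val.app (op X.left)
        (ue U ((L (O.over U)).obj Q)
          (((adj (O.over U)).unit.app Q).app (op X) (p ⊗ₜ rs' U n))))) = _
  refine (congrArg (fun z => (((tensorRightCompIso ((G O).obj N)).hom.app
      ((Ec O.obj U).obj P.val))).val.app (op X.left)
    (((L O).map (projIso P.val N.val).hom).val.app (op X.left) z))
    (sheafifyCompEZ_unit U Q (p ⊗ₜ rs' U n))).trans ?_
  refine (congrArg ((((tensorRightCompIso ((G O).obj N)).hom.app _)).val.app (op X.left))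
    (unit_nat (projIso P.val N.val).hom _)).trans ?_
  refine (congrArg (fun z => (((tensorRightCompIso ((G O).obj N)).hom.app
      ((Ec O.obj U).obj P.val))).val.app (op X.left)
    (((adj O).unit.app ((Ec O.obj U).obj P.val ⊗ N.val)).app (op X.left) z))
    (projEquiv_inc P.val N.val (V := op X.left) X.hom p n)).trans ?_
  exact leftIso_hom ((Ec O.obj U).obj P.val) N (incC P.val (V := op X.left) X.hom p) n

end Groth.Agent.Lib.ShHomTensor28.Proj
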