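import Groth.Agent.Lib.ShHomTensor28.Theta
import Groth.Agent.Lib.ShHomTensor28.Proj

/-!
# Internal hom and restriction: the evaluation
-/

set_option autoImplicit false
set_option maxHeartbeats 1600000
set_option linter.unusedSectionVars false

universe u

open CategoryTheory Limits Opposite

namespace Groth.Agent.Lib.ShHomTensor28.Alpha

open Groth.Agent.Lib.ShHomTensor28.Tmul Groth.Agent.Lib.ShHomTensor28.Theta
  Groth.Agent.Lib.ShHomTensor28.Mu Groth.Agent.Lib.ShHomTensor28.Proj

variable {C : Type u} [SmallCategory C] {J : GrothendieckTopology C} {O : Sheaf J CommRingCat.{u}}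

local instance hSH (D : Type u) [SmallCategory D] {K : GrothendieckTopology D}
    (A : Sheaf K CommRingCat.{u}) (F : _root_.ModSite.Mod A) : _root_.ModSite.HasSheafHom F :=
  ModTensor.ModSite.hasSheafHom F

variable (U : C) (F : _root_.ModSite.Mod O)

/-- `Hom(F, X)|_U ⊗ F|_U ⟶ X|_U`. -/
noncomputable abbrev evR (X : _root_.ModSite.Mod O) :
    T ((_root_.ModSite.restr O U).obj (H' F X)) ((_root_.ModSite.restr O U).obj F) ⟶
      (_root_.ModSite.restr O U).obj X :=
  (mu U (H' F X) F).hom ≫ (_root_.ModSite.restr O U).map (ev F X)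

/-- The comparison `Hom(F, X)|_U ⟶ Hom(F|_U, X|_U)`. -/
noncomputable def alpha (X : _root_.ModSite.Mod O) :
    (_root_.ModSite.restr O U).obj (H' F X) ⟶
      H' ((_root_.ModSite.restr O U).obj F) ((_root_.ModSite.restr O U).obj X) :=
  (_root_.ModSite.sheafHomAdj ((_root_.ModSite.restr O U).obj F)).homEquiv _ _ (evR U F X)

lemma unc_alpha (X : _root_.ModSite.Mod O) : unc (alpha U F X) = evR U F X :=
  unc_homEquiv _

set_option maxRecDepth 20000 in
lemma counit_unit_apply (M : _root_.ModSite.Mod O) {V : Over U} (a : M.val.obj (op V.left)) :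
    ((ExtZero.ModSite.adjEZ O U).counit.app M).val.app (op V.left)
      (ue U ((_root_.ModSite.restr O U).obj M) (rs' U a)) = a :=
  by
  have h := congrArg
    (fun k : (_root_.ModSite.restr O U).obj M ⟶ (_root_.ModSite.restr O U).obj M =>
      k.val.app (op V) (rs' U a))
    ((ExtZero.ModSite.adjEZ O U).right_triangle_components M)
  simp only [SheafOfModules.comp_val, PresheafOfModules.comp_app, ConcreteCategory.comp_apply,
    SheafOfModules.id_val, PresheafOfModules.id_app, ConcreteCategory.id_apply] at h
  rw [unit_EZ] at h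
  exact h

/-- The evaluation of the composite adjunction, transposed. -/
lemma key (X : _root_.ModSite.Mod O) :
    (ExtZero.ModSite.adjEZ O U).unit.app _ ≫
      (_root_.ModSite.restr O U).map
        ((ExtZero.ModSite.projRight O U F).hom.app ((_root_.ModSite.restr O U).obj (H' F X)) ≫
          tl ((ExtZero.ModSite.adjEZ O U).counit.app (H' F X)) F ≫ ev F X) = evR U F X := by
  refine ext2 fun V a b => ?_
  have h1 := projRight_unit U F ((_root_.ModSite.restr O U).obj (H' F X)) (X := V) a b
  simp only [SheafOfModules.comp_val, PresheafOfModules.comp_app, ConcreteCategory.comp_apply]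
  erw [unit_EZ]
  refine (congrArg (fun z => (ev F X).val.app (op V.left)
    ((tl ((ExtZero.ModSite.adjEZ O U).counit.app (H' F X)) F).val.app (op V.left) z)) h1).trans ?_
  refine (congrArg ((ev F X).val.app (op V.left))
    (tl_tm ((ExtZero.ModSite.adjEZ O U).counit.app (H' F X)) _ b)).trans ?_
  refine (congrArg (fun z => (ev F X).val.app (op V.left) (tm (V := V.left) z b))
    (counit_unit_apply U (H' F X) a)).trans ?_
  exact (congrArg ((ev F X).val.app (op V.left)) (mu_tm U a b)).symm

theorem alpha_eq (X : _root_.ModSite.Mod O) :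
    alpha U F X = (ExtZero.Restr.restrSheafHomIso U F).inv.app X := by
  apply Theta.hom_ext
  rw [unc_alpha, ← key U F X]
  let ad₂ := ((ExtZero.ModSite.adjEZ O U).comp (_root_.ModSite.sheafHomAdj F)).ofNatIsoLeft
    (ExtZero.ModSite.projRight O U F).symm
  let ad₁ := (_root_.ModSite.sheafHomAdj ((_root_.ModSite.restr O U).obj F)).comp
    (ExtZero.ModSite.adjEZ O U)
  have h : (ExtZero.Restr.restrSheafHomIso U F).inv.app X =
      (ad₂.rightAdjointUniq ad₁).hom.app X := by
    rw [ExtZero.Restr.restrSheafHomIso, Adjunction.rightAdjointUniq_inv_app]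
  have h2 := Adjunction.homEquiv_symm_rightAdjointUniq_hom_app ad₂ ad₁ X
  rw [← h] at h2
  have h4 : (ExtZero.ModSite.adjEZ O U).unit.app _ ≫ (_root_.ModSite.restr O U).map
      ((ad₁.homEquiv _ X).symm ((ExtZero.Restr.restrSheafHomIso U F).inv.app X)) =
        unc ((ExtZero.Restr.restrSheafHomIso U F).inv.app X) := by
    simp only [ad₁, Adjunction.comp_homEquiv, Equiv.symm_trans_apply]
    refine ((ExtZero.ModSite.adjEZ O U).homEquiv_unit _ _ _).symm.trans ?_
    refine (Equiv.apply_symm_apply _ _).trans ?_
    rw [Adjunction.homEquiv_counit]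
  refine Eq.trans ?_ h4
  rw [h2]
  congr 2

instance isIso_alpha (X : _root_.ModSite.Mod O) : IsIso (alpha U F X) := by
  rw [alpha_eq]
  infer_instance

variable (G H : _root_.ModSite.Mod O)

lemma restr_unc_theta {V : Over U} (a : (H' F G).val.obj (op V.left)) (h : H.val.obj (op V.left))
    (x : F.val.obj (op V.left)) :
    (ev F (T G H)).val.app (op V.left)
        (tm ((theta G H F).val.app (op V.left) (tm a h)) x) =
      tm ((ev F G).val.app (op V.left) (tm a x)) h := by
  have e1 := congrArg (fun k => k.val.app (op V.left) (tm (tm a h) x)) (unc_theta G H F)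
  simp only [SheafOfModules.comp_val, PresheafOfModules.comp_app, ConcreteCategory.comp_apply]
    at e1
  rw [tl_tm] at e1
  rw [swap_tm, tl_tm] at e1
  exact e1

theorem restr_theta :
    (mu U (H' F G) H).hom ≫ (_root_.ModSite.restr O U).map (theta G H F) ≫ alpha U F (T G H) =
      tl (alpha U F G) ((_root_.ModSite.restr O U).obj H) ≫
        theta ((_root_.ModSite.restr O U).obj G) ((_root_.ModSite.restr O U).obj H)
          ((_root_.ModSite.restr O U).obj F) ≫
          (_root_.ModSite.sheafHom ((_root_.ModSite.restr O U).obj F)).map (mu U G H).hom := by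
  apply Theta.hom_ext
  have hnat : ∀ {M : _root_.ModSite.Mod (O.over U)}
      (y : M ⟶ H' ((_root_.ModSite.restr O U).obj F)
        (T ((_root_.ModSite.restr O U).obj G) ((_root_.ModSite.restr O U).obj H))),
      unc (y ≫ (_root_.ModSite.sheafHom ((_root_.ModSite.restr O U).obj F)).map (mu U G H).hom) =
        unc y ≫ (mu U G H).hom := fun y => by
    simp only [unc, tl]
    rw [Functor.map_comp, Category.assoc, Category.assoc]
    exact congrArg _ ((_root_.ModSite.sheafHomAdj ((_root_.ModSite.restr O U).obj F)).counit.naturality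
      (mu U G H).hom)
  rw [unc_comp, unc_comp, unc_alpha, ← Category.assoc (tl (alpha U F G) _), hnat, unc_comp,
    unc_theta]
  refine ext3 fun V a h x => ?_
  have eL : (tl (mu U (H' F G) H).hom ((_root_.ModSite.restr O U).obj F)).val.app (op V)
      (tm (tm a h) x) = tm (rs' U (M := T (H' F G) H) (tm (V := V.left) a h)) x :=
    (tl_tm _ _ _).trans (congrArg (fun z => tm z x) (mu_tm U a h))
  have e2 := congrArg (fun k => k.val.app (op V) (tm (V := V) a x)) (unc_alpha U F G)
  simp only [SheafOfModules.comp_val, PresheafOfModules.comp_app, ConcreteCategory.comp_apply]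
    at e2
  rw [tl_tm] at e2
  simp only [SheafOfModules.comp_val, PresheafOfModules.comp_app, ConcreteCategory.comp_apply]
  rw [eL, tl_tm]
  refine (congrArg (((_root_.ModSite.restr O U).map (ev F (T G H))).val.app (op V))
    (mu_tm U _ x)).trans ?_
  refine (restr_unc_theta U F G H a h x).trans ?_
  rw [tl_tm, tl_tm, swap_tm, tl_tm]
  refine Eq.trans ?_ (congrArg (fun z => (mu U G H).hom.val.app (op V) (tm z h))
    (e2.trans (congrArg (((_root_.ModSite.restr O U).map (ev F G)).val.app (op V))
      (mu_tm U a x)))).symm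
  exact (mu_tm U _ h).symm

theorem isIso_restr_theta
    [IsIso (theta ((_root_.ModSite.restr O U).obj G) ((_root_.ModSite.restr O U).obj H)
      ((_root_.ModSite.restr O U).obj F))] :
    IsIso ((_root_.ModSite.restr O U).map (theta G H F)) := by
  haveI : IsIso ((mu U (H' F G) H).hom ≫
      (_root_.ModSite.restr O U).map (theta G H F) ≫ alpha U F (T G H)) := by
    rw [restr_theta U F G H]; infer_instance
  haveI := IsIso.of_isIso_comp_left (mu U (H' F G) H).hom
    ((_root_.ModSite.restr O U).map (theta G H F) ≫ alpha U F (T G H))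
  exact IsIso.of_isIso_comp_right ((_root_.ModSite.restr O U).map (theta G H F))
    (alpha U F (T G H))

end Groth.Agent.Lib.ShHomTensor28.Alpha
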