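import Groth.Agent.Lib.ShHomTensor28.Alpha

/-!
# `Hom(F, G) ⊗ H ≅ Hom(F, G ⊗ H)` for `F` finitely presented and `H` flat
-/

set_option autoImplicit false
set_option linter.style.haveILetI false

universe u

open CategoryTheory Limits Opposite

namespace Groth.Agent.Lib.ShHomTensor28.Main

open Groth.Agent.Lib.ShHomTensor28.Tmul Groth.Agent.Lib.ShHomTensor28.Theta

variable {C : Type u} [SmallCategory C] {J : GrothendieckTopology C} {O : Sheaf J CommRingCat.{u}}

theorem isIso_theta (F G H : _root_.ModSite.Mod O) [F.IsFinitePresentation]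
    (hH : _root_.ModSite.IsFlat H) : IsIso (theta G H F) := by
  obtain ⟨σ, hσ⟩ := SheafOfModules.IsFinitePresentation.exists_quasicoherentData
    (R := _root_.ModSite.ringSh O) F
  refine FPHom.SheafHom.isIso_of_restr σ.X σ.coversTop _ fun k => ?_
  haveI := @Theta.isIso_theta_of_presentation _ _ _ _ ((_root_.ModSite.restr O (σ.X k)).obj G)
    ((_root_.ModSite.restr O (σ.X k)).obj H) (ExtZero.ModSite.isFlat_restr O (σ.X k) H hH) _
    (σ.presentation k) (hσ.isFinite_presentation k)
  exact Alpha.isIso_restr_theta (σ.X k) F G H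

theorem exists_iso (F G H : _root_.ModSite.Mod O) [F.IsFinitePresentation]
    [_root_.ModSite.HasSheafHom F] (hH : _root_.ModSite.IsFlat H) :
    Nonempty (T ((_root_.ModSite.sheafHom F).obj G) H ≅
      (_root_.ModSite.sheafHom F).obj (T G H)) :=
  haveI := isIso_theta F G H hH
  ⟨asIso (theta G H F)⟩

end Groth.Agent.Lib.ShHomTensor28.Main
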