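import Groth.Agent.Lib.ShHomTensor28.Theta
import Groth.Agent.Lib.ExtZero.Restr

/-!
# The canonical map commutes with restriction
-/

set_option autoImplicit false
set_option linter.unusedSectionVars false

set_option maxHeartbeats 1600000

universe u

open CategoryTheory Limits Opposite MonoidalCategory

namespace Groth.Agent.Lib.ShHomTensor28.Mu

open Groth.Agent.Lib.ShHomTensor28.Tmul Groth.Agent.Lib.ShHomTensor28.Theta
  Groth.Agent.Lib.ModTensor.Monoidal Groth.Agent.Lib.ExtZero.Presheaf

variable {C : Type u} [SmallCategory C] {J : GrothendieckTopology C} {O : Sheaf J CommRingCat.{u}}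

local instance hSH (D : Type u) [SmallCategory D] {K : GrothendieckTopology D}
    (A : Sheaf K CommRingCat.{u}) (F : _root_.ModSite.Mod A) : _root_.ModSite.HasSheafHom F :=
  ModTensor.ModSite.hasSheafHom F

variable (U : C)

/-- Restriction. -/
noncomputable abbrev R : _root_.ModSite.Mod O ⥤ _root_.ModSite.Mod (O.over U) :=
  _root_.ModSite.restr O U

/-- Restriction commutes with tensor products. -/
noncomputable def mu (M N : _root_.ModSite.Mod O) :
    T ((R U).obj M) ((R U).obj N) ≅ (R U).obj (T M N) :=
  (ExtZero.Restr.restrTensorIso U M N).symm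

/-- A section as a section of the restriction. -/
abbrev rs' {M : _root_.ModSite.Mod O} {X : Over U} (a : M.val.obj (op X.left)) : ((R U).obj M).val.obj (op X) := a

lemma sheafifyRestr_unit (P : PM O) {X : Over U} (x : P.obj (op X.left)) :
    (ExtZero.Restr.sheafifyRestrIso O U P).hom.val.app (op X)
      (((adj (O.over U)).unit.app ((restrc O.obj U).obj P)).app (op X) x) =
      rs' U (M := (L O).obj P) (((adj O).unit.app P).app (op X.left) x) := by
  refine (congrArg (((counitIso.{u, u, u} (O.over U)).app ((R U).obj ((L O).obj P))).hom.val.app (op X))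
    (unit_nat (O := O.over U) (V := X) ((restrc O.obj U).map ((adj O).unit.app P)) x)).trans ?_
  exact congrArg (fun k => k.app (op X) (((adj O).unit.app P).app (op X.left) x))
    ((adj (O.over U)).right_triangle_components ((R U).obj ((L O).obj P)))

lemma mu_tm {M N : _root_.ModSite.Mod O} {X : Over U} (a : M.val.obj (op X.left))
    (b : N.val.obj (op X.left)) :
    (mu U M N).hom.val.app (op X)
        (tm (A := (R U).obj M) (B := (R U).obj N) (V := X) (rs' U a) (rs' U b)) = rs' U (M := T M N) (tm (A := M) (B := N) (V := X.left) a b) := by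
  show (ExtZero.Restr.sheafifyRestrIso O U _).hom.val.app (op X) (((L (O.over U)).map
    (Functor.Monoidal.μIso (restrc O.obj U) ((G O).obj M) ((G O).obj N)).hom).val.app (op X)
      (tm (A := (R U).obj M) (B := (R U).obj N) (V := X) (rs' U a) (rs' U b))) = _
  refine (congrArg ((ExtZero.Restr.sheafifyRestrIso O U _).hom.val.app (op X))
    (unit_nat (O := O.over U) (V := X) (Functor.Monoidal.μIso (restrc O.obj U) ((G O).obj M) ((G O).obj N)).hom
      ((rs' U a) ⊗ₜ (rs' U b)))).trans ?_
  exact sheafifyRestr_unit U ((G O).obj M ⊗ (G O).obj N) _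

end Groth.Agent.Lib.ShHomTensor28.Mu
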