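import Groth.Agent.Lib.ShHomTensor28.Tmul
import Groth.Agent.Lib.FPHom.SheafHom

/-!
# The canonical map `Hom(F, G) ⊗ H ⟶ Hom(F, G ⊗ H)`
-/

set_option autoImplicit false
set_option linter.unusedSectionVars false

universe u

open CategoryTheory Limits Opposite

namespace Groth.Agent.Lib.ShHomTensor28.Theta

open Groth.Agent.Lib.ShHomTensor28.Tmul Groth.Agent.Lib.FPHom

variable {C : Type u} [SmallCategory C] {J : GrothendieckTopology C} {O : Sheaf J CommRingCat.{u}}

local instance (F : _root_.ModSite.Mod O) : _root_.ModSite.HasSheafHom F :=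
  ModTensor.ModSite.hasSheafHom F

/-- The internal hom. -/
noncomputable abbrev H' (F G : _root_.ModSite.Mod O) : _root_.ModSite.Mod O :=
  (_root_.ModSite.sheafHom F).obj G

/-- Evaluation. -/
noncomputable abbrev ev (F G : _root_.ModSite.Mod O) : T (H' F G) F ⟶ G :=
  (_root_.ModSite.sheafHomAdj F).counit.app G

/-- The transpose. -/
noncomputable abbrev unc {F G M : _root_.ModSite.Mod O} (y : M ⟶ H' F G) : T M F ⟶ G :=
  tl y F ≫ ev F G

lemma hom_ext {F G M : _root_.ModSite.Mod O} {y y' : M ⟶ H' F G} (h : unc y = unc y') :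
    y = y' := by
  apply ((_root_.ModSite.sheafHomAdj F).homEquiv M G).symm.injective
  simp only [Adjunction.homEquiv_counit]
  exact h

lemma unc_homEquiv {F G M : _root_.ModSite.Mod O} (z : T M F ⟶ G) :
    unc ((_root_.ModSite.sheafHomAdj F).homEquiv M G z) = z := by
  have h := ((_root_.ModSite.sheafHomAdj F).homEquiv M G).symm_apply_apply z
  rw [Adjunction.homEquiv_counit] at h
  exact h

lemma unc_comp {F G M M' : _root_.ModSite.Mod O} (f : M' ⟶ M) (y : M ⟶ H' F G) :
    unc (f ≫ y) = tl f F ≫ unc y := by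
  simp only [unc, tl]
  rw [Functor.map_comp, Category.assoc]

lemma unc_comp_hm {F' F G M : _root_.ModSite.Mod O} (f : F' ⟶ F) (y : M ⟶ H' F G) :
    unc (y ≫ (SheafHom.hm f).app G) = tr M f ≫ unc y := by
  have h := SheafHom.symm_comp_hm f y
  rw [Adjunction.homEquiv_counit, Adjunction.homEquiv_counit] at h
  exact h

variable (G H : _root_.ModSite.Mod O)

/-- The canonical map `Hom(F, G) ⊗ H ⟶ Hom(F, G ⊗ H)`. -/
noncomputable def theta (F : _root_.ModSite.Mod O) : T (H' F G) H ⟶ H' F (T G H) :=
  (_root_.ModSite.sheafHomAdj F).homEquiv _ _ ((swap (H' F G) H F).hom ≫ tl (ev F G) H)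

lemma unc_theta (F : _root_.ModSite.Mod O) :
    unc (theta G H F) = (swap (H' F G) H F).hom ≫ tl (ev F G) H :=
  unc_homEquiv _

/-- The functor `F ↦ Hom(F, G) ⊗ H` on morphisms. -/
noncomputable abbrev ma {F' F : _root_.ModSite.Mod O} (f : F' ⟶ F) : T (H' F G) H ⟶ T (H' F' G) H :=
  tl ((SheafHom.hm f).app G) H

/-- The functor `F ↦ Hom(F, G ⊗ H)` on morphisms. -/
noncomputable abbrev mb {F' F : _root_.ModSite.Mod O} (f : F' ⟶ F) : H' F (T G H) ⟶ H' F' (T G H) :=
  (SheafHom.hm f).app (T G H)

lemma theta_natural {F' F : _root_.ModSite.Mod O} (f : F' ⟶ F) :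
    ma G H f ≫ theta G H F' = theta G H F ≫ mb G H f := by
  apply hom_ext
  rw [unc_comp, unc_theta, unc_comp_hm, unc_theta]
  refine ext3 fun V a h x => ?_
  have key : tr (H' F G) f ≫ ev F G = tl ((SheafHom.hm f).app G) F' ≫ ev F' G := by
    have h := unc_comp_hm f (𝟙 (H' F G))
    rw [Category.id_comp] at h
    refine Eq.trans ?_ h.symm
    rw [unc, tl, CategoryTheory.Functor.map_id]
    exact congrArg (tr (H' F G) f ≫ ·) (Category.id_comp _).symm
  simp only [SheafOfModules.comp_val, PresheafOfModules.comp_app, ConcreteCategory.comp_apply]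
  rw [tl_tm, tl_tm, swap_tm, tl_tm, tr_tm, swap_tm, tl_tm]
  have e := congrArg (fun k => k.val.app (op V) (tm a x)) key
  simp only [SheafOfModules.comp_val, PresheafOfModules.comp_app, ConcreteCategory.comp_apply] at e
  rw [tr_tm, tl_tm] at e
  rw [e]

theorem isIso_theta_unit : IsIso (theta G H (_root_.ModSite.unit O)) := by
  let e := SheafHom.sheafHomUnitIso (O := O)
  have he : ∀ X, unc (e.hom.app X) = (runit X).hom := fun X => by
    have h := Adjunction.homEquiv_symm_rightAdjointUniq_hom_app
      ((Adjunction.id (C := _root_.ModSite.Mod O)).ofNatIsoLeft ModTensor.ModSite.flipUnitIso.symm)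
      (_root_.ModSite.sheafHomAdj (_root_.ModSite.unit O)) X
    rw [Adjunction.homEquiv_counit] at h
    refine h.trans ?_
    simp [Adjunction.ofNatIsoLeft]
  have hkey : tl (e.hom.app G) H ≫ theta G H _ = e.hom.app (T G H) := by
    apply hom_ext
    rw [unc_comp, unc_theta, he]
    refine ext3 fun V g h r => ?_
    simp only [SheafOfModules.comp_val, PresheafOfModules.comp_app, ConcreteCategory.comp_apply]
    rw [tl_tm, tl_tm, swap_tm, tl_tm]
    refine Eq.trans ?_ ((runit_tm (A := T G H) (tm g h) r).trans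
      (smul_tm (A := G) (B := H) r g h)).symm
    have := congrArg (fun k => k.val.app (op V) (tm g (B := _root_.ModSite.unit O) r)) (he G)
    simp only [SheafOfModules.comp_val, PresheafOfModules.comp_app, ConcreteCategory.comp_apply] at this
    rw [tl_tm] at this
    exact congrArg (fun z => tm z h) (this.trans (runit_tm g r))
  haveI : IsIso (tl (e.hom.app G) H ≫ theta G H _) := hkey ▸ inferInstance
  exact IsIso.of_isIso_comp_left (tl (e.hom.app G) H) _

theorem isIso_theta_free (ι : Type u) [Finite ι] :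
    IsIso (theta G H (SheafOfModules.free (R := _root_.ModSite.ringSh O) ι)) := by
  classical
  have := Fintype.ofFinite ι
  haveI := isIso_theta_unit G H
  let F : ι → _root_.ModSite.Mod O := fun _ => _root_.ModSite.unit O
  let p : ∀ i, (∐ F) ⟶ _root_.ModSite.unit O :=
    fun i => Sigma.desc (fun j => if j = i then 𝟙 (_root_.ModSite.unit O) else 0)
  have hid : ∑ i, p i ≫ Sigma.ι F i = 𝟙 (∐ F) := by
    refine Sigma.hom_ext _ _ fun j => ?_
    rw [Preadditive.comp_sum, Category.comp_id, Finset.sum_eq_single j]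
    · simp [F, p]
    · intro i _ hij
      simp [F, p, Ne.symm hij]
    · simp
  have hhm : ∑ i, SheafHom.hm (Sigma.ι F i) ≫ SheafHom.hm (p i) = 𝟙 _ :=
    (Finset.sum_congr rfl fun i _ => (SheafHom.hm_comp _ _).symm).trans
      (((map_sum (SheafHom.hmHom (∐ F) (∐ F)) _ _).symm.trans (congrArg _ hid)).trans
        (SheafHom.hm_id _))
  have hA : ∑ i, ma G H (Sigma.ι F i) ≫ ma G H (p i) = 𝟙 _ := by
    have h := congrArg (fun t => tl (NatTrans.app t G) H) hhm
    simpa [ma, tl, Functor.map_sum, NatTrans.app_sum] using h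
  have hB : ∑ i, mb G H (Sigma.ι F i) ≫ mb G H (p i) = 𝟙 _ := by
    simpa [mb] using congrArg (fun t => NatTrans.app t (T G H)) hhm
  change IsIso (theta G H (∐ F))
  refine ⟨⟨∑ i, mb G H (Sigma.ι F i) ≫ inv (theta G H _) ≫ ma G H (p i), ?_, ?_⟩⟩
  · rw [Preadditive.comp_sum, ← hA]
    refine Finset.sum_congr rfl fun i _ => ?_
    rw [← Category.assoc, ← theta_natural G H (Sigma.ι F i), Category.assoc,
      IsIso.hom_inv_id_assoc]
  · rw [Preadditive.sum_comp, ← hB]
    refine Finset.sum_congr rfl fun i _ => ?_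
    simp only [Category.assoc]
    rw [theta_natural G H (p i), IsIso.inv_hom_id_assoc]

theorem isIso_theta_of_presentation (hH : _root_.ModSite.IsFlat H) {F : _root_.ModSite.Mod O}
    (P : SheafOfModules.Presentation F) [P.IsFinite] : IsIso (theta G H F) := by
  haveI := hH.1
  haveI : Finite P.relations.I := SheafOfModules.GeneratingSections.IsFiniteType.finite
  haveI : Finite P.generators.I := SheafOfModules.GeneratingSections.IsFiniteType.finite
  let g : SheafOfModules.free (R := _root_.ModSite.ringSh O) P.relations.I ⟶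
      SheafOfModules.free P.generators.I :=
    (SheafOfModules.freeHomEquiv _).symm P.relations.s ≫ kernel.ι _
  let π : SheafOfModules.free P.generators.I ⟶ F := P.generators.π
  have w : g ≫ π = 0 := by simp [g, π]
  haveI := P.generators.epi
  haveI := isIso_theta_free G H P.generators.I
  haveI := isIso_theta_free G H P.relations.I
  haveI := SheafHom.mono_hm π G
  haveI : Mono (mb G H π) := SheafHom.mono_hm π (T G H)
  have z : (SheafHom.hm π).app G ≫ (SheafHom.hm g).app G = 0 := by
    rw [← NatTrans.comp_app, SheafHom.hm_comp_eq_zero g π w]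
    rfl
  have hA : (ShortComplex.mk (ma G H π) (ma G H g)
      (by simp only [ma, tl]; rw [← Functor.map_comp, z, Functor.map_zero])).Exact :=
    (show (ShortComplex.mk _ _ z).Exact from SheafHom.exact_hm g π w P.isColimit G).map
      ((_root_.ModSite.tensorBi O).flip.obj H)
  haveI : Mono (ma G H π) := inferInstance
  haveI : Mono (theta G H F) := by
    haveI : Mono (ma G H π ≫ theta G H _) := inferInstance
    rw [theta_natural] at this
    exact mono_of_mono _ (mb G H π)
  have hz : mb G H π ≫ mb G H g = 0 := by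
    rw [mb, mb, ← NatTrans.comp_app, SheafHom.hm_comp_eq_zero g π w]
    rfl
  have hk : (mb G H π ≫ inv (theta G H _)) ≫ ma G H g = 0 := by
    rw [← cancel_mono (theta G H _), zero_comp, Category.assoc, theta_natural]
    simp only [Category.assoc, IsIso.inv_hom_id_assoc]
    exact hz
  obtain ⟨l, hl⟩ : ∃ l, l ≫ ma G H π = mb G H π ≫ inv (theta G H _) := by
    exact hA.lift' _ hk
  haveI : IsSplitEpi (theta G H F) := IsSplitEpi.mk' ⟨l, by
    rw [← cancel_mono (mb G H π), Category.assoc, ← theta_natural, Category.id_comp,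
      reassoc_of% hl, IsIso.inv_hom_id, Category.comp_id]⟩
  exact isIso_of_mono_of_epi _

end Groth.Agent.Lib.ShHomTensor28.Theta
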