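import Groth.Agent.Lib.ModTensor.ModSite

/-!
# Pure tensors in `tensorBi`
-/

set_option autoImplicit false

universe u

open CategoryTheory MonoidalCategory Limits Opposite

namespace Groth.Agent.Lib.ShHomTensor28.Tmul

open Groth.Agent.Lib.ModTensor.Monoidal

variable {C : Type u} [SmallCategory C] {J : GrothendieckTopology C} {O : Sheaf J CommRingCat.{u}}

/-- The tensor product. -/
noncomputable abbrev T (A B : _root_.ModSite.Mod O) : _root_.ModSite.Mod O :=
  ((_root_.ModSite.tensorBi O).obj A).obj B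

/-- Functoriality in the left factor. -/
noncomputable abbrev tl {A A' : _root_.ModSite.Mod O} (f : A ⟶ A') (B : _root_.ModSite.Mod O) :
    T A B ⟶ T A' B :=
  ((_root_.ModSite.tensorBi O).flip.obj B).map f

/-- Functoriality in the right factor. -/
noncomputable abbrev tr (A : _root_.ModSite.Mod O) {B B' : _root_.ModSite.Mod O} (f : B ⟶ B') :
    T A B ⟶ T A B' :=
  ((_root_.ModSite.tensorBi O).obj A).map f

/-- The tensor product of two sections. -/
noncomputable def tm {A B : _root_.ModSite.Mod O} {V : C} (a : A.val.obj (op V))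
    (b : B.val.obj (op V)) : (T A B).val.obj (op V) :=
  ((adj O).unit.app ((G O).obj A ⊗ (G O).obj B)).app (op V) (a ⊗ₜ b)

lemma unit_nat {P Q : PM O} (f : P ⟶ Q) {V : C} (x : P.obj (op V)) :
    ((L O).map f).val.app (op V) (((adj O).unit.app P).app (op V) x) =
      ((adj O).unit.app Q).app (op V) (f.app (op V) x) :=
  (congrArg (fun k => k.app (op V) x) ((adj O).unit.naturality f)).symm

lemma tl_tm {A A' B : _root_.ModSite.Mod O} (f : A ⟶ A') {V : C} (a : A.val.obj (op V))
    (b : B.val.obj (op V)) : (tl f B).val.app (op V) (tm a b) = tm (f.val.app (op V) a) b :=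
  unit_nat ((G O).map f ▷ (G O).obj B) (a ⊗ₜ b)

lemma tr_tm {A B B' : _root_.ModSite.Mod O} (f : B ⟶ B') {V : C} (a : A.val.obj (op V))
    (b : B.val.obj (op V)) : (tr A f).val.app (op V) (tm a b) = tm a (f.val.app (op V) b) :=
  unit_nat ((G O).obj A ◁ (G O).map f) (a ⊗ₜ b)

lemma ext_unit {P : PM O} {M : _root_.ModSite.Mod O} {f g : (L O).obj P ⟶ M}
    (h : ∀ (V : C) (x : P.obj (op V)),
      f.val.app (op V) (((adj O).unit.app P).app (op V) x) =
        g.val.app (op V) (((adj O).unit.app P).app (op V) x)) : f = g := by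
  apply ((adj O).homEquiv _ _).injective
  refine PresheafOfModules.hom_ext fun V => ?_
  ext x
  exact h V.unop x

/-- Maps out of a tensor product are equal when they agree on pure tensors. -/
lemma ext2 {A B M : _root_.ModSite.Mod O} {f g : T A B ⟶ M}
    (h : ∀ (V : C) (a : A.val.obj (op V)) (b : B.val.obj (op V)),
      f.val.app (op V) (tm a b) = g.val.app (op V) (tm a b)) : f = g := by
  apply ((adj O).homEquiv _ _).injective
  refine PresheafOfModules.hom_ext fun V => ?_
  exact ModuleCat.MonoidalCategory.tensor_ext (fun a b => h V.unop a b)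

/-- Sheafifying the left factor. -/
noncomputable abbrev leftIso (P : PM O) (B : _root_.ModSite.Mod O) :
    (L O).obj (P ⊗ (G O).obj B) ≅ T ((L O).obj P) B :=
  (tensorRightCompIso ((G O).obj B)).app P

lemma leftIso_hom (P : PM O) (B : _root_.ModSite.Mod O) {V : C} (x : P.obj (op V))
    (b : B.val.obj (op V)) :
    (leftIso P B).hom.val.app (op V) (((adj O).unit.app (P ⊗ (G O).obj B)).app (op V) (x ⊗ₜ b)) =
      tm (((adj O).unit.app P).app (op V) x) b :=
  unit_nat ((adj O).unit.app P ▷ (G O).obj B) (x ⊗ₜ b)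

lemma leftIso_inv (P : PM O) (B : _root_.ModSite.Mod O) {V : C} (x : P.obj (op V))
    (b : B.val.obj (op V)) :
    (leftIso P B).inv.val.app (op V) (tm (((adj O).unit.app P).app (op V) x) b) =
      ((adj O).unit.app (P ⊗ (G O).obj B)).app (op V) (x ⊗ₜ b) := by
  rw [← leftIso_hom]
  exact congrArg (fun k => k.val.app (op V)
    (((adj O).unit.app (P ⊗ (G O).obj B)).app (op V) (x ⊗ₜ b))) (leftIso P B).hom_inv_id

/-- Maps out of a triple tensor product are equal when they agree on pure tensors. -/
lemma ext3 {A B K M : _root_.ModSite.Mod O} {f g : T (T A B) K ⟶ M}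
    (h : ∀ (V : C) (a : A.val.obj (op V)) (b : B.val.obj (op V)) (k : K.val.obj (op V)),
      f.val.app (op V) (tm (tm a b) k) = g.val.app (op V) (tm (tm a b) k)) : f = g := by
  refine (cancel_epi (leftIso ((G O).obj A ⊗ (G O).obj B) K).hom).1 ?_
  apply ((adj O).homEquiv _ _).injective
  refine PresheafOfModules.hom_ext fun V => ?_
  refine ModuleCat.MonoidalCategory.tensor_ext₃' fun a b k => ?_
  have e := leftIso_hom ((G O).obj A ⊗ (G O).obj B) K (V := V.unop) (a ⊗ₜ b) k
  exact (congrArg (f.val.app V) e).trans ((h V.unop a b k).trans (congrArg (g.val.app V) e).symm)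

/-- Exchanging the last two factors. -/
noncomputable def swap (A B K : _root_.ModSite.Mod O) : T (T A B) K ≅ T (T A K) B :=
  (leftIso ((G O).obj A ⊗ (G O).obj B) K).symm ≪≫
    (L O).mapIso (α_ _ _ _ ≪≫ whiskerLeftIso _ (β_ _ _) ≪≫ (α_ _ _ _).symm) ≪≫
      leftIso ((G O).obj A ⊗ (G O).obj K) B

lemma swap_tm {A B K : _root_.ModSite.Mod O} {V : C} (a : A.val.obj (op V))
    (b : B.val.obj (op V)) (k : K.val.obj (op V)) :
    (swap A B K).hom.val.app (op V) (tm (tm a b) k) = tm (tm a k) b := by
  have e1 := leftIso_inv ((G O).obj A ⊗ (G O).obj B) K (a ⊗ₜ b) k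
  refine (congrArg (fun z => (leftIso _ B).hom.val.app (op V)
    (((L O).map _).val.app (op V) z)) e1).trans ?_
  refine (congrArg ((leftIso _ B).hom.val.app (op V)) (unit_nat _ _)).trans ?_
  exact leftIso_hom ((G O).obj A ⊗ (G O).obj K) B (a ⊗ₜ k) b

/-- The right unitor. -/
noncomputable abbrev runit (A : _root_.ModSite.Mod O) :
    T A (_root_.ModSite.unit O) ≅ A :=
  ModTensor.ModSite.flipUnitIso.app A

lemma runit_tm {A : _root_.ModSite.Mod O} {V : C} (a : A.val.obj (op V))
    (r : (_root_.ModSite.ringSh O).obj.obj (op V)) :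
    (runit A).hom.val.app (op V) (tm a (B := _root_.ModSite.unit O) r) = r • a := by
  refine (congrArg ((counitIso O).hom.app A |>.val.app (op V))
    (unit_nat (ρ_ ((G O).obj A)).hom (a ⊗ₜ r))).trans ?_
  exact congrArg (fun k => k.app (op V) (r • a)) ((adj O).right_triangle_components A)

lemma smul_tm {A B : _root_.ModSite.Mod O} {V : C} (r : (_root_.ModSite.ringSh O).obj.obj (op V)) (a : A.val.obj (op V))
    (b : B.val.obj (op V)) : r • tm a b = tm (r • a) b :=
  (((adj O).unit.app ((G O).obj A ⊗ (G O).obj B)).app (op V)).hom.map_smul r (a ⊗ₜ b) |>.symm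

end Groth.Agent.Lib.ShHomTensor28.Tmul
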